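import Mathlib
import Cfsg.Agent.Lib.Transfer.Criteria
import Cfsg.Agent.Lib.PGroup.Thompson
import Cfsg.Agent.Lib.ThompsonNPC.Thompson

/-!
Normal `p`-complements from nilpotent local subgroups.
-/

set_option autoImplicit false

namespace Cfsg.Agent.Lib.NilpotentLocal

universe u

/-- Nilpotent groups have normal `p`-complements. -/
theorem hasNormalPComplement_of_isNilpotent {G : Type u} [Group G] [Finite G] [Group.IsNilpotent G]
    (p : ℕ) [hp : Fact p.Prime] : Cfsg.HasNormalPComplement p G := by
  rw [Cfsg.Agent.Lib.Transfer.hasNormalPComplement_iff_locallyPTrivial]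
  intro Q hQ g _ hg
  obtain ⟨P, hP⟩ := hQ.exists_le_sylow
  suffices h : g ∈ Subgroup.centralizer ((P : Subgroup G) : Set G) by
    rw [Subgroup.mem_centralizer_iff] at h ⊢
    exact fun q hq => h q (hP hq)
  haveI hPn : (P : Subgroup G).Normal :=
    P.normal_of_normalizerCondition Group.normalizerCondition_of_isNilpotent
  set C := Subgroup.centralizer ((P : Subgroup G) : Set G) with hC
  haveI : C.Normal := Subgroup.normal_centralizer
  have hCp : ∀ r : ℕ, r.Prime → r ∣ C.index → r = p := by
    intro r hr hrd
    by_contra hne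
    haveI : Fact r.Prime := ⟨hr⟩
    let R : Sylow r G := default
    haveI : (R : Subgroup G).Normal :=
      R.normal_of_normalizerCondition Group.normalizerCondition_of_isNilpotent
    have hRC : (R : Subgroup G) ≤ C := fun y hy => Subgroup.mem_centralizer_iff.mpr fun x hx =>
      Subgroup.commute_of_normal_of_disjoint _ _ hPn inferInstance
        (IsPGroup.disjoint_of_ne p r (Ne.symm hne) _ _ P.isPGroup' R.isPGroup') x y hx hy
    exact R.not_dvd_index (hrd.trans (Subgroup.index_dvd_of_le hRC))
  have h1 : orderOf (QuotientGroup.mk g : G ⧸ C) = 1 := by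
    by_contra hne
    obtain ⟨r, hr, hrd⟩ := Nat.exists_prime_and_dvd hne
    have h2 := hCp r hr (hrd.trans (by rw [Subgroup.index_eq_card]; exact orderOf_dvd_natCard _))
    subst h2
    exact hp.out.one_lt.ne' (Nat.eq_one_of_dvd_coprimes hg
      (hrd.trans (orderOf_map_dvd (QuotientGroup.mk' C) g)) dvd_rfl)
  exact (QuotientGroup.eq_one_iff g).mp (orderOf_eq_one_iff.mp h1)

/-- For odd `p`: nilpotent `N(J(P))` and nilpotent `C(Z(P))` give a normal `p`-complement. -/
theorem hasNormalPComplement_of_nilpotent_locals {G : Type u} [Group G] [Finite G] {p : ℕ}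
    [Fact p.Prime] (hp : p ≠ 2) (P : Sylow p G)
    (h1 : Group.IsNilpotent
      (Subgroup.normalizer (Cfsg.thompsonSubgroupOf p (P : Subgroup G) : Set G)))
    (h2 : Group.IsNilpotent
      (Subgroup.centralizer (((P : Subgroup G) ⊓ Subgroup.centralizer (P : Set G)) : Set G))) :
    Cfsg.HasNormalPComplement p G := by
  haveI := h1
  haveI := h2
  exact Cfsg.Agent.Lib.ThompsonNPC.hasNormalPComplement_of_thompson hp P
    (hasNormalPComplement_of_isNilpotent p) (hasNormalPComplement_of_isNilpotent p)

end Cfsg.Agent.Lib.NilpotentLocal
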